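import Cfsg.Agent.Lib.Helper6.X32.Defs
import Cfsg.Agent.Lib.Helper94.Symp

set_option autoImplicit false
open scoped MatrixGroups Matrix
open Cfsg

namespace Cfsg.Agent.Lib.Helper83.X32

open Cfsg.Agent.Lib.Helper6.X32
open Cfsg.Agent.Lib.Helper94

universe u

section

variable {F : Type u} [Field F]

theorem sf_sub_left (u u' v : I4 → F) :
    sympForm 2 F (u - u') v = sympForm 2 F u v - sympForm 2 F u' v := by
  have h : u - u' = u + (-1 : F) • u' := by rw [neg_one_smul, sub_eq_add_neg]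
  rw [h, sf_add_left, sf_smul_left]
  ring

theorem sf_sub_right (u v v' : I4 → F) :
    sympForm 2 F u (v - v') = sympForm 2 F u v - sympForm 2 F u v' := by
  have h : v - v' = v + (-1 : F) • v' := by rw [neg_one_smul, sub_eq_add_neg]
  rw [h, sf_add_right, sf_smul_right]
  ring

theorem sf_neg_right (u v : I4 → F) : sympForm 2 F u (-v) = - sympForm 2 F u v := by
  have h : -v = (-1 : F) • v := by rw [neg_one_smul]
  rw [h, sf_smul_right]
  ring

theorem dsq (a b : M4 F) (haa : a * a = 1) (hbb : b * b = 1) (hab : a * b = -(b * a)) :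
    (a - b) * (a - b) = (2 : F) • (1 : M4 F) := by
  rw [sub_mul, mul_sub, mul_sub, haa, hbb, hab, two_smul]
  abel

theorem dmul_left (a b : M4 F) (haa : a * a = 1) (hbb : b * b = 1) (hab : a * b = -(b * a)) :
    (a - b) * a = -(b * (a - b)) := by
  have hba : b * a = -(a * b) := by rw [hab, neg_neg]
  rw [sub_mul, mul_sub, haa, hbb]
  abel

theorem dmul_right (a b : M4 F) (haa : a * a = 1) (hbb : b * b = 1) (hab : a * b = -(b * a)) :
    (a - b) * b = -(a * (a - b)) := by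
  rw [sub_mul, mul_sub, haa, hbb]
  abel

theorem dmul_other (a b c : M4 F) (hac : a * c = -(c * a)) (hbc : b * c = -(c * b)) :
    (a - b) * c = -(c * (a - b)) := by
  rw [sub_mul, mul_sub, hac, hbc]
  abel

theorem dform (a b : M4 F) (haa : a * a = 1) (hbb : b * b = 1) (hab : a * b = -(b * a))
    (ha : ∀ u v, sympForm 2 F (a *ᵥ u) (a *ᵥ v) = sympForm 2 F u v)
    (hb : ∀ u v, sympForm 2 F (b *ᵥ u) (b *ᵥ v) = sympForm 2 F u v) (u v : I4 → F) :
    sympForm 2 F ((a - b) *ᵥ u) ((a - b) *ᵥ v) = 2 * sympForm 2 F u v := by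
  have h1 : sympForm 2 F (a *ᵥ u) (b *ᵥ v) = sympForm 2 F u ((a * b) *ᵥ v) := by
    rw [← ha (a *ᵥ u) (b *ᵥ v), Matrix.mulVec_mulVec, Matrix.mulVec_mulVec, haa,
      Matrix.one_mulVec]
  have h2 : sympForm 2 F (b *ᵥ u) (a *ᵥ v) = - sympForm 2 F u ((a * b) *ᵥ v) := by
    rw [← hb (b *ᵥ u) (a *ᵥ v), Matrix.mulVec_mulVec, Matrix.mulVec_mulVec, hbb,
      Matrix.one_mulVec, hab, Matrix.neg_mulVec, sf_neg_right, neg_neg]
  rw [Matrix.sub_mulVec, Matrix.sub_mulVec, sf_sub_left, sf_sub_right, sf_sub_right, ha, hb, h1,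
    h2]
  ring

theorem sq_cancel (P Q X : M4 F) (h : Q * Q = (2 : F) • (1 : M4 F)) :
    P * Q * (Q * X) = (2 : F) • (P * X) := by
  rw [mul_assoc, ← mul_assoc Q, h, Matrix.smul_mul, one_mul, Matrix.mul_smul]

end

theorem pkgEx5A : PkgEx5A.{u} := by
  intro F _ R h hR hFr hRS
  have h2 : (2 : F) ≠ 0 := hR.two_ne
  have h4 : (4 : F) ≠ 0 := by
    have : (4 : F) = 2 * 2 := by norm_num
    rw [this]; exact mul_ne_zero h2 h2
  obtain ⟨H, hH⟩ : ∃ H : Fin 5 → M4 F, ∀ i, H i = ((h i : GL4 F) : M4 F) := ⟨_, fun _ => rfl⟩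
  have hsq : ∀ i, H i * H i = 1 := by
    intro i
    rw [hH, ← Units.val_mul, hFr.sq i, Units.val_one]
  have hanti : ∀ i j, i ≠ j → H i * H j = -(H j * H i) := by
    intro i j hij
    rw [hH, hH, ← Units.val_mul, hFr.anti i j hij, Units.val_neg, Units.val_mul]
  have hsp : ∀ i u v, sympForm 2 F (H i *ᵥ u) (H i *ᵥ v) = sympForm 2 F u v := by
    intro i u v
    rw [hH]
    exact (mem_spGL_iff 2 (h i)).mp (hRS (hFr.mem i)) u v
  -- the four factors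
  have hD : ∀ (p q : Fin 5), p ≠ q → ∀ i,
      (H p - H q) * H i = -(H (Equiv.swap p q i) * (H p - H q)) := by
    intro p q hpq i
    by_cases hip : i = p
    · rw [hip, Equiv.swap_apply_left]
      exact dmul_left _ _ (hsq p) (hsq q) (hanti p q hpq)
    · by_cases hiq : i = q
      · rw [hiq, Equiv.swap_apply_right]
        exact dmul_right _ _ (hsq p) (hsq q) (hanti p q hpq)
      · rw [Equiv.swap_apply_of_ne_of_ne hip hiq]
        exact dmul_other _ _ _ (hanti p i (Ne.symm hip)) (hanti q i (Ne.symm hiq))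
  have hDsq : ∀ (p q : Fin 5), p ≠ q → (H p - H q) * (H p - H q) = (2 : F) • (1 : M4 F) :=
    fun p q hpq => dsq _ _ (hsq p) (hsq q) (hanti p q hpq)
  have hDf : ∀ (p q : Fin 5), p ≠ q → ∀ u v,
      sympForm 2 F ((H p - H q) *ᵥ u) ((H p - H q) *ᵥ v) = 2 * sympForm 2 F u v :=
    fun p q hpq => dform _ _ (hsq p) (hsq q) (hanti p q hpq) (hsp p) (hsp q)
  obtain ⟨D0, hD0⟩ : ∃ D0 : M4 F, D0 = H 0 - H 1 := ⟨_, rfl⟩
  obtain ⟨D1, hD1⟩ : ∃ D1 : M4 F, D1 = H 1 - H 2 := ⟨_, rfl⟩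
  obtain ⟨D2, hD2⟩ : ∃ D2 : M4 F, D2 = H 2 - H 3 := ⟨_, rfl⟩
  obtain ⟨D3, hD3⟩ : ∃ D3 : M4 F, D3 = H 3 - H 4 := ⟨_, rfl⟩
  have s0 : D0 * D0 = (2 : F) • (1 : M4 F) := by rw [hD0]; exact hDsq 0 1 (by decide)
  have s1 : D1 * D1 = (2 : F) • (1 : M4 F) := by rw [hD1]; exact hDsq 1 2 (by decide)
  have s2 : D2 * D2 = (2 : F) • (1 : M4 F) := by rw [hD2]; exact hDsq 2 3 (by decide)
  have s3 : D3 * D3 = (2 : F) • (1 : M4 F) := by rw [hD3]; exact hDsq 3 4 (by decide)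
  have c0 : ∀ i, D0 * H i = -(H (Equiv.swap 0 1 i) * D0) := by
    rw [hD0]; exact hD 0 1 (by decide)
  have c1 : ∀ i, D1 * H i = -(H (Equiv.swap 1 2 i) * D1) := by
    rw [hD1]; exact hD 1 2 (by decide)
  have c2 : ∀ i, D2 * H i = -(H (Equiv.swap 2 3 i) * D2) := by
    rw [hD2]; exact hD 2 3 (by decide)
  have c3 : ∀ i, D3 * H i = -(H (Equiv.swap 3 4 i) * D3) := by
    rw [hD3]; exact hD 3 4 (by decide)
  have f0 : ∀ u v, sympForm 2 F (D0 *ᵥ u) (D0 *ᵥ v) = 2 * sympForm 2 F u v := by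
    rw [hD0]; exact hDf 0 1 (by decide)
  have f1 : ∀ u v, sympForm 2 F (D1 *ᵥ u) (D1 *ᵥ v) = 2 * sympForm 2 F u v := by
    rw [hD1]; exact hDf 1 2 (by decide)
  have f2 : ∀ u v, sympForm 2 F (D2 *ᵥ u) (D2 *ᵥ v) = 2 * sympForm 2 F u v := by
    rw [hD2]; exact hDf 2 3 (by decide)
  have f3 : ∀ u v, sympForm 2 F (D3 *ᵥ u) (D3 *ᵥ v) = 2 * sympForm 2 F u v := by
    rw [hD3]; exact hDf 3 4 (by decide)
  have hσ : ∀ i : Fin 5,
      Equiv.swap (0 : Fin 5) 1 (Equiv.swap (1 : Fin 5) 2 (Equiv.swap (2 : Fin 5) 3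
        (Equiv.swap (3 : Fin 5) 4 i))) = i + 1 := by decide
  have hcomm : ∀ i, D0 * D1 * D2 * D3 * H i = H (i + 1) * (D0 * D1 * D2 * D3) := by
    intro i
    rw [← hσ i, mul_assoc (D0 * D1 * D2), c3, mul_neg, ← mul_assoc, mul_assoc (D0 * D1), c2,
      mul_neg, neg_mul, neg_neg, ← mul_assoc, mul_assoc D0, c1, mul_neg, neg_mul, neg_mul,
      ← mul_assoc, c0, neg_mul, neg_mul, neg_mul, neg_neg]
    simp only [mul_assoc]
  have hprod : D0 * D1 * D2 * D3 * (D3 * D2 * D1 * D0) = (16 : F) • (1 : M4 F) := by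
    have e : D3 * D2 * D1 * D0 = D3 * (D2 * (D1 * D0)) := by simp only [mul_assoc]
    rw [e, sq_cancel _ _ _ s3, sq_cancel _ _ _ s2, sq_cancel _ _ _ s1, s0, smul_smul, smul_smul,
      smul_smul]
    norm_num
  have hprod' : D3 * D2 * D1 * D0 * (D0 * D1 * D2 * D3) = (16 : F) • (1 : M4 F) := by
    have e : D0 * D1 * D2 * D3 = D0 * (D1 * (D2 * D3)) := by simp only [mul_assoc]
    rw [e, sq_cancel _ _ _ s0, sq_cancel _ _ _ s1, sq_cancel _ _ _ s2, s3, smul_smul, smul_smul,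
      smul_smul]
    norm_num
  have h16 : (4 : F)⁻¹ * (4 : F)⁻¹ * 16 = 1 := by
    field_simp
    norm_num
  obtain ⟨y, hy⟩ : ∃ y : GL4 F, (y : M4 F) = (4 : F)⁻¹ • (D0 * D1 * D2 * D3) :=
    ⟨⟨(4 : F)⁻¹ • (D0 * D1 * D2 * D3), (4 : F)⁻¹ • (D3 * D2 * D1 * D0),
      by rw [Matrix.smul_mul, Matrix.mul_smul, hprod, smul_smul, smul_smul, h16, one_smul],
      by rw [Matrix.smul_mul, Matrix.mul_smul, hprod', smul_smul, smul_smul, h16, one_smul]⟩,
      rfl⟩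
  refine ⟨y, ?_, ?_⟩
  · rw [mem_spGL_iff]
    intro u v
    rw [hy, Matrix.smul_mulVec, Matrix.smul_mulVec, sf_smul_left, sf_smul_right,
      ← Matrix.mulVec_mulVec, ← Matrix.mulVec_mulVec, ← Matrix.mulVec_mulVec,
      ← Matrix.mulVec_mulVec, ← Matrix.mulVec_mulVec, ← Matrix.mulVec_mulVec, f0, f1, f2, f3]
    linear_combination (sympForm 2 F u v) * h16
  · intro i
    rw [mul_inv_eq_iff_eq_mul]
    apply Units.ext
    rw [Units.val_mul, Units.val_mul, hy, ← hH, ← hH, Matrix.smul_mul, hcomm, Matrix.mul_smul]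

end Cfsg.Agent.Lib.Helper83.X32
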